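import Cfsg.Agent.H912.Bd3

/-!
# Projective representations of `PSL₃(4)` over `ℂ`: the bound 5 from `3²:Q₈` (helper755, for S4747)
-/

set_option autoImplicit false

universe u v

namespace Cfsg.Agent.H755.Leo

open Cfsg.Agent.H912.Bd Matrix

section Abs

variable {T : Type v} [Group T] {D C : T}

/-- `D ^ a C ^ b` -/
def ff (D C : T) (x : ZMod 3 × ZMod 3) : T := D ^ x.1.val * C ^ x.2.val

theorem pow_val_add (hD : D ^ 3 = 1) (a b : ZMod 3) : D ^ (a + b).val = D ^ a.val * D ^ b.val := by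
  rw [ZMod.val_add, ← pow_add]
  conv_rhs => rw [← Nat.mod_add_div (a.val + b.val) 3, pow_add, pow_mul, hD, one_pow, mul_one]

theorem ff_add (hD : D ^ 3 = 1) (hC : C ^ 3 = 1) (hDC : D * C = C * D) (x y : ZMod 3 × ZMod 3) :
    ff D C (x + y) = ff D C x * ff D C y := by
  have hc : Commute D C := hDC
  unfold ff
  rw [Prod.fst_add, Prod.snd_add, pow_val_add hD, pow_val_add hC]
  have h1 : D ^ y.1.val * C ^ x.2.val = C ^ x.2.val * D ^ y.1.val := hc.pow_pow _ _
  calc D ^ x.1.val * D ^ y.1.val * (C ^ x.2.val * C ^ y.2.val)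
      = D ^ x.1.val * (D ^ y.1.val * C ^ x.2.val) * C ^ y.2.val := by group
    _ = D ^ x.1.val * (C ^ x.2.val * D ^ y.1.val) * C ^ y.2.val := by rw [h1]
    _ = _ := by group

/-- the homomorphism -/
def fh (hD : D ^ 3 = 1) (hC : C ^ 3 = 1) (hDC : D * C = C * D) : Multiplicative (ZMod 3 × ZMod 3) →* T where
  toFun x := ff D C x.toAdd
  map_one' := by
    show D ^ (0 : ZMod 3).val * C ^ (0 : ZMod 3).val = 1
    simp
  map_mul' x y := ff_add hD hC hDC _ _

theorem pow_val_neg (hD : D ^ 3 = 1) (a : ZMod 3) : D ^ (-a).val = (D ^ a.val)⁻¹ := by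
  apply eq_inv_of_mul_eq_one_left
  rw [← pow_val_add hD, neg_add_cancel, ZMod.val_zero, pow_zero]

/-- the action on `(ZMod 3)²` -/
def AA : Fin 5 → ZMod 3 × ZMod 3 → ZMod 3 × ZMod 3 :=
  ![fun x => x, fun x => (x.2, -x.1), fun x => (-x.1, -x.2), fun x => (-x.2, x.1), fun x => (-x.1 - x.2, x.2 - x.1)]

theorem AA_diff : ∀ k l : Fin 5, k ≠ l → ∀ x, AA k x = AA l x → x = 0 := by decide

theorem AA_trans : ∀ x : ZMod 3 × ZMod 3, x ≠ 0 → ∃ k l, AA k (AA l (1, 0)) = x := by decide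

/-- five elements acting differently on `3²` -/
theorem bd_five {F : Type u} [Field F] (h3 : ((3 : ℕ) : F) ≠ 0) {i j : T} (hD : D ^ 3 = 1) (hC : C ^ 3 = 1)
    (hDC : D * C = C * D) (hD1 : D ≠ 1) (i1 : i * D * i⁻¹ = C⁻¹) (i2 : i * C * i⁻¹ = D)
    (j1 : j * D * j⁻¹ = D⁻¹ * C⁻¹) (j2 : j * C * j⁻¹ = D⁻¹ * C) : Bd F 3 5 T := by
  classical
  have hc : Commute D C := hDC
  let s : Fin 5 → T := ![1, i, i * i, i * i * i, j]
  have hi : ∀ x, i * ff D C x * i⁻¹ = ff D C (x.2, -x.1) := by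
    intro x
    have h1 : i * ff D C x * i⁻¹ = (i * D * i⁻¹) ^ x.1.val * (i * C * i⁻¹) ^ x.2.val := by
      rw [conj_pow, conj_pow]
      unfold ff
      group
    rw [h1, i1, i2]
    unfold ff
    rw [pow_val_neg hC, inv_pow]
    exact ((hc.pow_pow x.2.val x.1.val).inv_right).symm.eq
  have hj : ∀ x, j * ff D C x * j⁻¹ = ff D C (-x.1 - x.2, x.2 - x.1) := by
    intro x
    have h1 : j * ff D C x * j⁻¹ = (j * D * j⁻¹) ^ x.1.val * (j * C * j⁻¹) ^ x.2.val := by
      rw [conj_pow, conj_pow]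
      unfold ff
      group
    rw [h1, j1, j2]
    unfold ff
    rw [sub_eq_add_neg, sub_eq_add_neg, pow_val_add hD, pow_val_add hC, pow_val_neg hD, pow_val_neg hD,
      pow_val_neg hC]
    have hc1 : Commute D⁻¹ C⁻¹ := (hc.inv_left).inv_right
    have hc2 : Commute D⁻¹ C := hc.inv_left
    rw [hc1.mul_pow, hc2.mul_pow, inv_pow, inv_pow, inv_pow]
    have e1 : Commute (C ^ x.1.val)⁻¹ (D ^ x.2.val)⁻¹ := ((hc.symm.pow_pow _ _).inv_left).inv_right
    have e2 : Commute (C ^ x.1.val)⁻¹ (C ^ x.2.val) := ((Commute.refl C).pow_pow _ _).inv_left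
    calc (D ^ x.1.val)⁻¹ * (C ^ x.1.val)⁻¹ * ((D ^ x.2.val)⁻¹ * C ^ x.2.val)
        = (D ^ x.1.val)⁻¹ * ((C ^ x.1.val)⁻¹ * (D ^ x.2.val)⁻¹) * C ^ x.2.val := by group
      _ = (D ^ x.1.val)⁻¹ * ((D ^ x.2.val)⁻¹ * (C ^ x.1.val)⁻¹) * C ^ x.2.val := by rw [e1.eq]
      _ = (D ^ x.1.val)⁻¹ * (D ^ x.2.val)⁻¹ * ((C ^ x.1.val)⁻¹ * C ^ x.2.val) := by group
      _ = (D ^ x.1.val)⁻¹ * (D ^ x.2.val)⁻¹ * (C ^ x.2.val * (C ^ x.1.val)⁻¹) := by rw [e2.eq]
  have hs : ∀ k x, s k * ff D C x * (s k)⁻¹ = ff D C (AA k x) := by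
    intro k x
    fin_cases k
    · show (1 : T) * ff D C x * (1 : T)⁻¹ = ff D C x
      group
    · exact hi x
    · show i * i * ff D C x * (i * i)⁻¹ = ff D C (-x.1, -x.2)
      calc i * i * ff D C x * (i * i)⁻¹ = i * (i * ff D C x * i⁻¹) * i⁻¹ := by group
        _ = _ := by rw [hi, hi]
    · show i * i * i * ff D C x * (i * i * i)⁻¹ = ff D C (-x.2, x.1)
      calc i * i * i * ff D C x * (i * i * i)⁻¹ = i * (i * (i * ff D C x * i⁻¹) * i⁻¹) * i⁻¹ := by group
        _ = _ := by rw [hi, hi, hi]; simp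
    · exact hj x
  have hf1 : ff D C (1, 0) = D := by
    show D ^ (1 : ZMod 3).val * C ^ (0 : ZMod 3).val = D
    have : (1 : ZMod 3).val = 1 := rfl
    rw [this, ZMod.val_zero, pow_one, pow_zero, mul_one]
  have hf0 : ff D C 0 = 1 := by
    show D ^ (0 : ZMod 3).val * C ^ (0 : ZMod 3).val = 1
    simp
  have hinj0 : ∀ x, ff D C x = 1 → x = 0 := by
    intro x hx
    by_contra hne
    obtain ⟨k, l, hkl⟩ := AA_trans x hne
    rw [← hkl, ← hs, ← hs, hf1] at hx
    apply hD1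
    have h5 : s k * (s l * D * (s l)⁻¹) * (s k)⁻¹ = (s k * s l) * D * (s k * s l)⁻¹ := by group
    rw [h5] at hx
    exact conj_eq_one_iff.1 hx
  have hinj : ∀ x y, ff D C x = ff D C y → x = y := by
    intro x y hxy
    have h5 : ff D C (x - y) = 1 := by
      have h6 := ff_add hD hC hDC (x - y) y
      rw [sub_add_cancel, hxy] at h6
      exact (mul_eq_right.1 h6.symm)
    exact sub_eq_zero.1 (hinj0 _ h5)
  let E : Subgroup T := (fh hD hC hDC).range
  have hE : ∀ e, e ∈ E ↔ ∃ x, e = ff D C x := by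
    intro e
    constructor
    · rintro ⟨x, rfl⟩
      exact ⟨x.toAdd, rfl⟩
    · rintro ⟨x, rfl⟩
      exact ⟨Multiplicative.ofAdd x, rfl⟩
  have hfin : Finite E := inferInstanceAs (Finite (fh hD hC hDC).range)
  have hcomm : ∀ a ∈ E, ∀ b ∈ E, a * b = b * a := by
    intro a ha b hb
    obtain ⟨x, rfl⟩ := (hE a).1 ha
    obtain ⟨y, rfl⟩ := (hE b).1 hb
    rw [← ff_add hD hC hDC, ← ff_add hD hC hDC, add_comm]
  have hp : IsPGroup 3 E := by
    rintro ⟨e, he⟩
    obtain ⟨x, rfl⟩ := (hE e).1 he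
    refine ⟨1, Subtype.ext ?_⟩
    show ff D C x ^ 3 ^ 1 = 1
    rw [pow_one, pow_succ, pow_two, ← ff_add hD hC hDC, ← ff_add hD hC hDC]
    have h9 : ∀ x : ZMod 3 × ZMod 3, x + x + x = 0 := by decide
    rw [h9, hf0]
  have hE1 : E ≠ ⊥ := by
    intro h
    apply hD1
    have h6 : D ∈ E := (hE D).2 ⟨(1, 0), hf1.symm⟩
    rw [h] at h6
    exact h6
  have hsinj : Function.Injective s := by
    intro k l hkl
    by_contra hne
    have h6 := AA_diff k l hne (1, 0) (hinj _ _ (by rw [← hs, ← hs, hkl]))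
    exact absurd h6 (by decide)
  have h7 := bd_of_free (F := F) Nat.prime_three h3 E hcomm hp hE1 (Finset.univ.image s) (by
    intro t ht e he
    obtain ⟨k, -, rfl⟩ := Finset.mem_image.1 ht
    obtain ⟨x, rfl⟩ := (hE e).1 he
    rw [hs]
    exact (hE _).2 ⟨_, rfl⟩) (by
    intro t ht t' ht' htt e he hee
    obtain ⟨k, -, rfl⟩ := Finset.mem_image.1 ht
    obtain ⟨l, -, rfl⟩ := Finset.mem_image.1 ht'
    obtain ⟨x, rfl⟩ := (hE e).1 he
    rw [hs, hs] at hee
    rw [AA_diff k l (fun h => htt (by rw [h])) x (hinj _ _ hee), hf0])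
  rwa [Finset.card_image_of_injective _ hsinj, Finset.card_univ, Fintype.card_fin] at h7

end Abs

section PSL

variable {K : Type v} [Field K] {w : K}

/-- the matrices -/
def mD (w : K) : Matrix (Fin 3) (Fin 3) K := !![1, 0, 0; 0, w, 0; 0, 0, w * w]
def mC (K : Type v) [Field K] : Matrix (Fin 3) (Fin 3) K := !![0, 0, 1; 1, 0, 0; 0, 1, 0]
def mW (w : K) : Matrix (Fin 3) (Fin 3) K := !![1, 1, 1; 1, w, w * w; 1, w * w, w]
def mJ (w : K) : Matrix (Fin 3) (Fin 3) K := !![1, 1, w * w; 1, w, w; w, 1, w]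

theorem det_mD (hw : w * w + w + 1 = 0) : (mD w).det = 1 := by
  unfold mD
  rw [Matrix.det_fin_three]
  simp
  grind

theorem det_mC : (mC K).det = 1 := by
  unfold mC
  rw [Matrix.det_fin_three]
  simp

theorem det_mW (hw : w * w + w + 1 = 0) (h2 : (2 : K) = 0) : (mW w).det = 1 := by
  unfold mW
  rw [Matrix.det_fin_three]
  simp
  grind

theorem det_mJ (hw : w * w + w + 1 = 0) (h2 : (2 : K) = 0) : (mJ w).det = 1 := by
  unfold mJ
  rw [Matrix.det_fin_three]
  simp
  grind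

theorem mC_three : mC K * mC K * mC K = 1 := by
  unfold mC
  ext i j
  fin_cases i <;> fin_cases j <;> simp [Matrix.mul_apply, Fin.sum_univ_three, Matrix.one_apply]

theorem mD_three (hw : w * w + w + 1 = 0) : mD w * mD w * mD w = 1 := by
  unfold mD
  ext i j
  fin_cases i <;> fin_cases j <;> simp [Matrix.mul_apply, Fin.sum_univ_three, Matrix.one_apply] <;> grind

theorem mDC (hw : w * w + w + 1 = 0) : mD w * mC K = w • (mC K * mD w) := by
  unfold mD mC
  ext i j
  fin_cases i <;> fin_cases j <;> simp [Matrix.mul_apply, Fin.sum_univ_three] <;> grind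

theorem mWC (hw : w * w + w + 1 = 0) : mW w * mC K = mD w * mW w := by
  unfold mD mC mW
  ext i j
  fin_cases i <;> fin_cases j <;> simp [Matrix.mul_apply, Fin.sum_univ_three] <;> grind

theorem mWD (hw : w * w + w + 1 = 0) : mC K * (mW w * mD w) = mW w := by
  unfold mD mC mW
  ext i j
  fin_cases i <;> fin_cases j <;> simp [Matrix.mul_apply, Fin.sum_univ_three] <;> grind

theorem mJD (hw : w * w + w + 1 = 0) (h2 : (2 : K) = 0) : mD w * mC K * (mJ w * mD w) = w • mJ w := by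
  unfold mD mC mJ
  ext i j
  fin_cases i <;> fin_cases j <;> simp [Matrix.mul_apply, Fin.sum_univ_three] <;> grind

theorem mJC (hw : w * w + w + 1 = 0) (h2 : (2 : K) = 0) : mJ w * mC K = mD w * mC K * mD w * mJ w := by
  unfold mD mC mJ
  ext i j
  fin_cases i <;> fin_cases j <;> simp [Matrix.mul_apply, Fin.sum_univ_three] <;> grind

theorem det_scalar (hw : w * w + w + 1 = 0) : (w • (1 : Matrix (Fin 3) (Fin 3) K)).det = 1 := by
  rw [Matrix.det_smul, Matrix.det_one, Fintype.card_fin]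
  grind

/-- the row `PSL₃(4)`, `p = 3` -/
theorem bd_psl34 {F : Type v} [Field F] [Fintype F] (hF : Fintype.card F = 4) :
    Cfsg.Agent.H912.Bd.Bd ℂ 3 5 (Matrix.ProjectiveSpecialLinearGroup (Fin 3) F) := by
  classical
  have h4 : (4 : F) = 0 := by
    have h5 : ((Fintype.card F : ℕ) : F) = 0 := Nat.cast_card_eq_zero F
    rw [hF] at h5
    exact_mod_cast h5
  have h2 : (2 : F) = 0 := by
    have h5 : (2 : F) * 2 = 0 := by rw [← h4]; norm_num
    exact mul_self_eq_zero.1 h5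
  obtain ⟨w, hw0, hw1⟩ : ∃ w : F, w ≠ 0 ∧ w ≠ 1 := by
    by_contra hno
    push Not at hno
    have h5 : (Finset.univ : Finset F) ⊆ {0, 1} := by
      intro x _
      rw [Finset.mem_insert, Finset.mem_singleton]
      by_cases hx : x = 0
      · exact Or.inl hx
      · exact Or.inr (hno x hx)
    have h6 := (Finset.card_le_card h5).trans Finset.card_le_two
    rw [Finset.card_univ, hF] at h6
    omega
  have hw : w * w + w + 1 = 0 := by
    have h5 := FiniteField.pow_card_sub_one_eq_one w hw0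
    rw [hF] at h5
    have h6 : (w - 1) * (w * w + w + 1) = 0 := by
      have : w ^ 3 = 1 := h5
      linear_combination this
    exact (mul_eq_zero.1 h6).resolve_left (sub_ne_zero.2 hw1)
  let d : SpecialLinearGroup (Fin 3) F := ⟨mD w, det_mD hw⟩
  let c : SpecialLinearGroup (Fin 3) F := ⟨mC F, det_mC⟩
  let W : SpecialLinearGroup (Fin 3) F := ⟨mW w, det_mW hw h2⟩
  let J : SpecialLinearGroup (Fin 3) F := ⟨mJ w, det_mJ hw h2⟩
  let z : SpecialLinearGroup (Fin 3) F := ⟨w • 1, det_scalar hw⟩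
  have hz : z ∈ Subgroup.center (SpecialLinearGroup (Fin 3) F) := by
    rw [Subgroup.mem_center_iff]
    intro x
    apply Subtype.ext
    show x.1 * (w • 1) = (w • 1) * x.1
    rw [mul_smul_comm, smul_mul_assoc, mul_one, one_mul]
  have hz1 : (z : ProjectiveSpecialLinearGroup (Fin 3) F) = 1 := (QuotientGroup.eq_one_iff z).2 hz
  have e1 : d * d * d = 1 := Subtype.ext (mD_three hw)
  have e2 : c * c * c = 1 := Subtype.ext mC_three
  have e3 : d * c = z * (c * d) := by
    apply Subtype.ext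
    show mD w * mC F = (w • 1) * (mC F * mD w)
    rw [smul_mul_assoc, one_mul, mDC hw]
  have e4 : W * c = d * W := Subtype.ext (mWC hw)
  have e5 : c * (W * d) = W := Subtype.ext (mWD hw)
  have e6 : d * c * (J * d) = z * J := by
    apply Subtype.ext
    show mD w * mC F * (mJ w * mD w) = (w • 1) * mJ w
    rw [smul_mul_assoc, one_mul, mJD hw h2]
  have e7 : J * c = d * c * d * J := Subtype.ext (mJC hw h2)
  have hd : d ∉ Subgroup.center (SpecialLinearGroup (Fin 3) F) := by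
    intro h
    have h5 := Subgroup.mem_center_iff.1 h c
    have h6 : (mC F * mD w) = mD w * mC F := congrArg Subtype.val h5
    have h7 := congrFun (congrFun h6 1) 0
    simp [mC, mD, Matrix.mul_apply, Fin.sum_univ_three] at h7
    exact hw1 h7.symm
  -- pass to the quotient
  let π : SpecialLinearGroup (Fin 3) F →* ProjectiveSpecialLinearGroup (Fin 3) F := QuotientGroup.mk' _
  have hπz : π z = 1 := hz1
  have f1 : π d ^ 3 = 1 := by
    rw [pow_succ, pow_two, ← map_mul, ← map_mul, e1, map_one]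
  have f2 : π c ^ 3 = 1 := by
    rw [pow_succ, pow_two, ← map_mul, ← map_mul, e2, map_one]
  have f3 : π d * π c = π c * π d := by
    rw [← map_mul, e3, map_mul, hπz, one_mul, map_mul]
  have f4 : π W * π c * (π W)⁻¹ = π d := by
    rw [← map_mul, e4, map_mul, mul_inv_cancel_right]
  have f5 : π W * π d * (π W)⁻¹ = (π c)⁻¹ := by
    have h5 : π c * (π W * π d) = π W := by rw [← map_mul, ← map_mul, e5]
    rw [eq_inv_iff_mul_eq_one]
    calc π W * π d * (π W)⁻¹ * π c = (π c)⁻¹ * (π c * (π W * π d)) * (π W)⁻¹ * π c := by group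
      _ = (π c)⁻¹ * π W * (π W)⁻¹ * π c := by rw [h5]
      _ = 1 := by group
  have f6 : π J * π d * (π J)⁻¹ = (π d)⁻¹ * (π c)⁻¹ := by
    have h5 : π d * π c * (π J * π d) = π J := by
      rw [← map_mul, ← map_mul, ← map_mul, e6, map_mul, hπz, one_mul]
    calc π J * π d * (π J)⁻¹ = (π c)⁻¹ * (π d)⁻¹ * (π d * π c * (π J * π d)) * (π J)⁻¹ := by group
      _ = (π c)⁻¹ * (π d)⁻¹ * π J * (π J)⁻¹ := by rw [h5]
      _ = (π d * π c)⁻¹ := by group
      _ = (π c * π d)⁻¹ := by rw [f3]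
      _ = _ := by group
  have f7 : π J * π c * (π J)⁻¹ = (π d)⁻¹ * π c := by
    have h5 : π J * π c = π d * π c * π d * π J := by
      rw [← map_mul, ← map_mul, ← map_mul, ← map_mul, e7]
    calc π J * π c * (π J)⁻¹ = π d * (π c * π d) := by rw [h5]; group
      _ = π d * (π d * π c) := by rw [f3]
      _ = (π d)⁻¹ * (π d ^ 3) * π c := by rw [pow_succ, pow_two]; group
      _ = _ := by rw [f1, mul_one]
  refine bd_five (by norm_num) f1 f2 f3 ?_ f5 f4 f6 f7
  intro h
  exact hd ((QuotientGroup.eq_one_iff d).1 h)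

end PSL

end Cfsg.Agent.H755.Leo
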